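import Groth.Agent.Lib.RegImmFlat.Basic
import Groth.Agent.Lib.Synt92.KRDescentScheme
import Groth.Agent.Lib.Wiebe.AcycRegular
import Groth.Agent.H26.RegQuasi
import Groth.Agent.H69.RegLim.Ring

/-!
# Regular immersions at a point: flat base change, descent, spreading out
-/

set_option autoImplicit false
set_option linter.style.haveILetI false
universe u

open CategoryTheory CategoryTheory.Limits AlgebraicGeometry RingTheory.Sequence

namespace Groth.Agent.H69.RegImmLim

open Groth.Agent.Lib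
open Groth.Agent.Lib.TorObstruction.Cube Groth.Agent.Lib.Wiebe.Link

variable {X Z X' Z' : Scheme.{u}}

/-- Regular at a point, for the plain kind. -/
abbrev At (i : Z ⟶ X) (z : Z) : Prop := RegImm.IsRegularImmersionAt RegImm.Kind.regular i z

theorem ofList_ne_top_of_ker (i : Z ⟶ X) (z : Z) {V : X.Opens} (hz : i z ∈ V) {rs : List Γ(X, V)}
    (h : RingHom.ker (i.app V).hom = Ideal.ofList rs) : Ideal.ofList rs ≠ ⊤ := fun htop => by
  have h1 : (1 : Γ(X, V)) ∈ RingHom.ker (i.app V).hom := by rw [h, htop]; trivial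
  rw [RingHom.mem_ker, map_one] at h1
  haveI : Nonempty ↥(i ⁻¹ᵁ V) := ⟨⟨z, hz⟩⟩
  exact one_ne_zero h1

theorem isRegular_of_w {A : Type u} [CommRing A] {rs : List A} (h : IsWeaklyRegular A rs)
    (hne : Ideal.ofList rs ≠ ⊤) : IsRegular A rs :=
  ⟨h, fun htop => hne (by rw [smul_eq_mul, Ideal.mul_top] at htop; exact htop.symm)⟩

/-- Flat base change at a point. -/
theorem at_of_sq {i : Z ⟶ X} {g : X' ⟶ X} [Flat g] {i' : Z' ⟶ X'} {g' : Z' ⟶ Z}
    (sq : IsPullback g' i' i g) (z' : Z') (h : At i (g' z')) : At i' z' := by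
  obtain ⟨⟨U, hU⟩, hzU, hcl, rs, hrs, hker⟩ := h
  have hz' : i' z' ∈ g ⁻¹ᵁ U := by
    change g (i' z') ∈ U
    rwa [← Scheme.Hom.comp_apply, ← sq.w, Scheme.Hom.comp_apply]
  obtain ⟨V, hV, hzV, hVU⟩ := exists_isAffineOpen_mem_and_subset (U := g ⁻¹ᵁ U) hz'
  obtain ⟨hcl', hker'⟩ := Synt92.KRDescentScheme.ker_baseChange i g i' g' sq hU hcl hV hVU
  rw [hker, Ideal.map_ofList] at hker'
  exact ⟨⟨V, hV⟩, hzV, hcl', _, RegImmFlat.seq_map _ (g.flat_appLE hU hV hVU) RegImm.Kind.regular rs hrs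
    (ofList_ne_top_of_ker i' z' hzV hker'), hker'⟩

/-- An ideal of a Noetherian local ring which becomes generated by a regular sequence after a
faithfully flat local extension is generated by a regular sequence. -/
theorem exists_regular_gens {L O : Type u} [CommRing L] [IsNoetherianRing L] [IsLocalRing L] [CommRing O]
    [IsLocalRing O] (φ : L →+* O) [IsLocalHom φ] (hφ : φ.Flat) (J : Ideal L) (hJ : J ≠ ⊤)
    {rs : List O} (hrs : IsWeaklyRegular O rs) (e : J.map φ = Ideal.ofList rs) :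
    ∃ gs : List L, IsWeaklyRegular L gs ∧ Ideal.ofList gs = J := by
  classical
  letI := φ.toAlgebra
  haveI : Module.Flat L O := hφ
  haveI : IsLocalHom (algebraMap L O) := ‹IsLocalHom φ›
  haveI : Module.FaithfullyFlat L O := Module.FaithfullyFlat.of_flat_of_isLocalHom
  obtain ⟨r, g, f, hf, hg, hgen, hrel⟩ := Synt92.KRDescent.exists_min_gens J
    (IsNoetherian.noetherian J) (IsLocalRing.maximalIdeal L)
  have hu : IsUnit f := IsLocalRing.notMem_maximalIdeal.1 hf
  have hgJ : Ideal.span (Set.range g) = J :=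
    le_antisymm (Ideal.span_le.2 (by rintro _ ⟨i, rfl⟩; exact hg i))
      fun x hx => (Ideal.unit_mul_mem_iff_mem _ hu).1 (hgen x hx)
  have hGJ : Ideal.span (Set.range (algebraMap L O ∘ g)) = J.map φ := by
    rw [Set.range_comp, ← Ideal.map_span, hgJ]
    rfl
  have hne : J.map φ ≠ ⊤ := fun h => hJ (by
    rw [← Ideal.comap_map_eq_self_of_faithfullyFlat (B := O) J]
    exact (congrArg (Ideal.comap (algebraMap L O)) h).trans Ideal.comap_top)
  have hh : Acyc rs.get := Synt92.CubeBase.acyc_of_isWeaklyRegular _ (by rwa [List.ofFn_get])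
  have hspan : Ideal.span (Set.range rs.get) = J.map φ := by
    rw [Synt92.KRLoc.span_range_eq_ofList, List.ofFn_get, e]
  have h1 : rs.length ≤ r := by
    simpa using Synt92.KRRank.le_length rs.get hne hh hspan (List.ofFn (algebraMap L O ∘ g))
      (by rw [← Synt92.KRLoc.span_range_eq_ofList, hGJ])
  have h2 : r ≤ rs.length := Synt92.KRDescent.le_card (algebraMap L O ∘ g) rs.get
    (hGJ.trans hspan.symm) fun c hc i => by
      obtain ⟨k, a, y, hy, ha⟩ := Module.Flat.isTrivialRelation_of_sum_smul_eq_zero (R := L) (M := O)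
        (f := g) (x := c) (by
          rw [← hc]; exact Finset.sum_congr rfl fun j _ => by rw [Algebra.smul_def, mul_comm]; rfl)
      rw [hy i]
      refine Ideal.sum_mem _ fun j _ => ?_
      rw [Algebra.smul_def]
      refine Ideal.mul_mem_right _ _ ?_
      have := hrel (fun i => a i j) (by
        rw [← ha j]; exact Finset.sum_congr rfl fun l _ => mul_comm _ _) i
      exact fun hu' => this (isUnit_of_map_unit (algebraMap L O) _ hu')
  obtain ⟨n, hn⟩ : ∃ n, r = n := ⟨r, rfl⟩
  have hcard : ∀ (m : ℕ) (h' : Fin m → O), m = r → Acyc h' →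
      Ideal.span (Set.range (algebraMap L O ∘ g)) = Ideal.span (Set.range h') →
      Acyc (algebraMap L O ∘ g) := by
    rintro m h' rfl ha hs
    exact Synt92.KRRank.acyc_of_card_eq h' _ ha hs
  have hacyc : Acyc g := Synt92.CubeBase.acyc_of_faithfullyFlat g
    (hcard _ rs.get (le_antisymm h1 h2) hh (hGJ.trans hspan.symm))
  refine ⟨(List.ofFn g).reverse, Wiebe.AcycRegular.isWeaklyRegular_reverse g hacyc fun i => ?_, ?_⟩
  · rw [IsLocalRing.jacobson_eq_maximalIdeal (⊥ : Ideal L) bot_ne_top]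
    exact IsLocalRing.le_maximalIdeal hJ (hg i)
  · rw [← hgJ, Synt92.KRLoc.span_range_eq_ofList]
    simp [Ideal.ofList]

/-- On a locally Noetherian scheme regularity at a point is read off the local ring. -/
theorem at_of_stalk [IsLocallyNoetherian X] (i : Z ⟶ X) (z : Z) {U : X.Opens} (hU : IsAffineOpen U)
    (hcl : IsClosedImmersion (i ∣_ U)) (x : X) (hxz : x = i z) (hx : x ∈ U)
    (gs : List (X.presheaf.stalk x)) (hw : IsWeaklyRegular (X.presheaf.stalk x) gs)
    (hgs : Ideal.ofList gs = (RingHom.ker (i.app U).hom).map (X.presheaf.germ U x hx).hom) :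
    At i z := by
  subst hxz
  haveI : IsClosedImmersion (i ∣_ U) := hcl
  haveI : IsNoetherianRing Γ(X, U) := IsLocallyNoetherian.component_noetherian ⟨U, hU⟩
  letI := TopCat.Presheaf.algebra_section_stalk X.presheaf (⟨i z, hx⟩ : U)
  haveI hloc := hU.isLocalization_stalk ⟨i z, hx⟩
  let p := (hU.primeIdealOf ⟨i z, hx⟩).asIdeal
  let L := X.presheaf.stalk (i z)
  haveI : IsLocalization.AtPrime L p := hloc
  obtain ⟨a, ha, fs, hfs⟩ := H26.RegImmLocal.exists_away p L (RingHom.ker (i.app U).hom) gs hw hgs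
  let D := X.basicOpen a
  have hzD : i z ∈ D := by
    rw [X.mem_basicOpen a (i z) hx]
    exact IsLocalization.map_units L (⟨a, ha⟩ : p.primeCompl)
  haveI := hU.isLocalization_basicOpen a
  obtain ⟨hwD, hI⟩ := hfs Γ(X, D)
  have hkerD : RingHom.ker (i.app D).hom = Ideal.ofList (fs.map (algebraMap Γ(X, U) Γ(X, D))) := by
    rw [Synt92.KRImm.ker_app_basicOpen i hU hcl a]
    exact hI
  exact ⟨⟨D, hU.basicOpen a⟩, hzD, Synt92.KRImm.closed_of_le i (X.basicOpen_le a) hcl, _,
    isRegular_of_w hwD (ofList_ne_top_of_ker i z hzD hkerD), hkerD⟩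

/-- Regularity at a point descends along a flat morphism to a locally Noetherian scheme. -/
theorem at_descend [IsLocallyNoetherian X] {i : Z ⟶ X} [IsImmersion i] {g : X' ⟶ X} [Flat g]
    {i' : Z' ⟶ X'} {g' : Z' ⟶ Z} (sq : IsPullback g' i' i g) (z' : Z') (h : At i' z') :
    At i (g' z') := by
  have hx : g (i' z') = i (g' z') := by
    rw [← Scheme.Hom.comp_apply, ← sq.w, Scheme.Hom.comp_apply]
  obtain ⟨⟨U, hU⟩, hzU, -, hcl⟩ := Synt92.KRImm.exists_closed_chart i (g' z') (O := ⊤) trivial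
  have hxU : g (i' z') ∈ U := hx ▸ hzU
  obtain ⟨V, hV, hzV, hVU⟩ := exists_isAffineOpen_mem_and_subset (U := g ⁻¹ᵁ U) (x := i' z') hxU
  obtain ⟨hcl', hker'⟩ := Synt92.KRDescentScheme.ker_baseChange i g i' g' sq hU hcl hV hVU
  obtain ⟨rs, hrs, hrsI⟩ := H26.RegImmKind.isRegularIdeal_ker h
  let L := X.presheaf.stalk (g (i' z'))
  let φ : L →+* X'.presheaf.stalk (i' z') := (g.stalkMap (i' z')).hom
  let J : Ideal L := (RingHom.ker (i.app U).hom).map (X.presheaf.germ U (g (i' z')) hxU).hom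
  have hmap : J.map φ = Ideal.ofList rs := by
    haveI := hcl'
    refine Eq.trans ?_ hrsI.symm
    rw [H26.RegImmKind.ker_stalkMap i' hV z' hzV, hker', Ideal.map_map, Ideal.map_map]
    congr 1
    ext a
    show (g.stalkMap (i' z')).hom (X.presheaf.germ U _ hxU a) =
      X'.presheaf.germ V (i' z') hzV ((g.appLE U V hVU).hom a)
    rw [Scheme.Hom.germ_stalkMap_apply]
    exact (TopCat.Presheaf.germ_res_apply X'.presheaf (homOfLE hVU) (i' z') hzV (g.app U a)).symm
  haveI : IsLocalHom φ := g.toLRSHom.prop (i' z')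
  haveI : IsNoetherianRing L := by
    haveI : IsNoetherianRing Γ(X, U) := IsLocallyNoetherian.component_noetherian ⟨U, hU⟩
    letI := TopCat.Presheaf.algebra_section_stalk X.presheaf (⟨g (i' z'), hxU⟩ : U)
    haveI := hU.isLocalization_stalk ⟨g (i' z'), hxU⟩
    exact IsLocalization.isNoetherianRing (hU.primeIdealOf ⟨g (i' z'), hxU⟩).asIdeal.primeCompl _
      inferInstance
  have hJ : J ≠ ⊤ := fun htop => by
    have h1 : J.map φ = ⊤ := by rw [htop, Ideal.map_top]
    rw [hmap, hrsI] at h1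
    exact RingHom.ker_ne_top _ h1
  obtain ⟨gs, hgs, hgsJ⟩ := exists_regular_gens φ (Flat.stalkMap g (i' z')) J hJ hrs.toIsWeaklyRegular hmap
  exact at_of_stalk i (g' z') hU hcl (g (i' z')) hx hxU gs hgs hgsJ

/-- The points at which an immersion is regular form an open set. -/
theorem isOpen_at (i : Z ⟶ X) : IsOpen {z | At i z} := by
  refine isOpen_iff_forall_mem_open.2 fun z hz => ?_
  obtain ⟨U, hzU, hcl, rs, hrs, hker⟩ := hz
  exact ⟨i ⁻¹ᵁ U.1, fun y hy => ⟨U, hy, hcl, rs, hrs, hker⟩, (i ⁻¹ᵁ U.1).2, hzU⟩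

end Groth.Agent.H69.RegImmLim
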