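import Groth.Agent.H69.RegImmLim.Local
import Groth.Agent.Lib.Lim.IdealDescend
import Groth.Agent.Lib.LimTop.Affine
import Groth.Agent.Lib.LimTop.Points
import Mathlib.AlgebraicGeometry.AffineTransitionLimit

/-!
# Regular immersions along flat limits
-/

set_option autoImplicit false
set_option linter.style.haveILetI false
set_option backward.isDefEq.respectTransparency false
universe u

open CategoryTheory CategoryTheory.Limits AlgebraicGeometry RingTheory.Sequence TopologicalSpace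

namespace Groth.Agent.H69.RegImmLim

open Groth.Agent.Lib

variable {X Z T T' : Scheme.{u}}

/-- The comparison of base changes is cartesian. -/
theorem isPullback_map (i : Z ⟶ X) (g : T' ⟶ T) (a : T ⟶ X) (b : T' ⟶ X) (w : g ≫ a = b) :
    IsPullback (pullback.lift (pullback.fst i b) (pullback.snd i b ≫ g)
        (by rw [Category.assoc, w]; exact pullback.condition))
      (pullback.snd i b) (pullback.snd i a) g :=
  IsPullback.of_right (h₁₂ := pullback.fst i a) (v₁₃ := i) (h₂₂ := a)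
    (by rw [pullback.lift_fst, w]; exact IsPullback.of_hasPullback i b)
    (pullback.lift_snd _ _ _) (IsPullback.of_hasPullback i a)

/-- Transfer of regularity to a further base change. -/
theorem at_further (i : Z ⟶ X) (g : T' ⟶ T) [Flat g] (a : T ⟶ X) (b : T' ⟶ X) (w : g ≫ a = b)
    (z' : ↥(pullback i b))
    (h : ∀ z : ↥(pullback i a), pullback.fst i a z = pullback.fst i b z' →
      pullback.snd i a z = g (pullback.snd i b z') → At (pullback.snd i a) z) :
    At (pullback.snd i b) z' := by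
  refine at_of_sq (isPullback_map i g a b w) z' (h _ ?_ ?_)
  · rw [← Scheme.Hom.comp_apply, pullback.lift_fst]
  · rw [← Scheme.Hom.comp_apply, pullback.lift_snd, Scheme.Hom.comp_apply]

variable {I : Type u} [SmallCategory I] [IsCofiltered I] {D : I ⥤ Scheme.{u}} {c : Cone D}
  [∀ (i j : I) (f : i ⟶ j), IsAffineHom (D.map f)]

/-- Noetherian stages. -/
theorem stage_of_noetherian (hc : IsLimit c) (hflat : ∀ (i j : I) (f : i ⟶ j), Flat (D.map f))
    (i₀ : I) [IsLocallyNoetherian (D.obj i₀)] {X₀ : Scheme.{u}} (j₀ : X₀ ⟶ D.obj i₀) [CompactSpace X₀]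
    [IsImmersion j₀] (h : ∀ z, At (pullback.snd j₀ (c.π.app i₀)) z) :
    ∃ (j : I) (φ : j ⟶ i₀), ∀ z, At (pullback.snd j₀ (D.map φ)) z := by
  classical
  haveI : ∀ {i j : I} (f : i ⟶ j), IsAffineHom (D.map f) := fun f => inferInstance
  haveI : Flat (c.π.app i₀) := LimTop.Affine.flat_π hc i₀ fun j φ => hflat j i₀ φ
  obtain ⟨O, hO, hOW⟩ := j₀.isEmbedding.isInducing.isOpen_iff.1 (isOpen_at j₀)
  choose U hzU hUtop hcl using fun z : X₀ => Synt92.KRImm.exists_closed_chart j₀ z (O := ⊤) trivial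
  obtain ⟨t, ht⟩ := isCompact_univ.elim_finite_subcover (fun z : X₀ => (j₀ ⁻¹ᵁ (U z).1 : Set X₀))
    (fun z => Opens.isOpen _) (fun z _ => Set.mem_iUnion.2 ⟨z, hzU z⟩)
  have hstage : ∀ k : X₀, ∃ j : Over i₀, ∀ x : D.obj j.left, D.map j.hom x ∈ (U k).1 →
      ∀ z : X₀, j₀ z = D.map j.hom x → At j₀ z := by
    intro k
    haveI := hcl k
    have hC : IsClosed (Set.range (j₀ ∣_ (U k).1)) := (j₀ ∣_ (U k).1).isClosedEmbedding.isClosed_range
    let U' : (D.obj i₀).Opens := ⟨O, hO⟩ ⊔ (U k).1.ι ''ᵁ ⟨_, hC.isOpen_compl⟩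
    have hle : c.π.app i₀ ⁻¹ᵁ (U k).1 ≤ c.π.app i₀ ⁻¹ᵁ U' := by
      intro s hs
      by_cases hz : ∃ z, j₀ z = c.π.app i₀ s
      · obtain ⟨z, hz⟩ := hz
        obtain ⟨z', h1, -⟩ := Scheme.Pullback.exists_preimage_pullback z s hz
        have := at_descend (IsPullback.of_hasPullback j₀ (c.π.app i₀)) z' (h z')
        rw [h1] at this
        refine Or.inl ?_
        show c.π.app i₀ s ∈ O
        rw [← hz]
        exact (show z ∈ j₀ ⁻¹' O by rw [hOW]; exact this)
      · refine Or.inr ⟨⟨c.π.app i₀ s, hs⟩, fun ⟨w, hw⟩ => hz ⟨w.1, ?_⟩, rfl⟩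
        have h2 := congrArg (fun p : (U k).1.toScheme => (U k).1.ι p) hw
        refine Eq.trans ?_ h2
        show _ = ((j₀ ∣_ (U k).1) ≫ (U k).1.ι) w
        rw [morphismRestrict_ι]
        rfl
    obtain ⟨j, φ, hj⟩ := exists_map_preimage_le_map_preimage D c hc (U k).2.isCompact hle
    refine ⟨Over.mk φ, fun x hx z hz => ?_⟩
    rcases hj hx with hxO | ⟨p, hp, hpx⟩
    · exact (show z ∈ j₀ ⁻¹' O by show j₀ z ∈ O; rw [hz]; exact hxO) |> fun hm => by
        rw [hOW] at hm; exact hm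
    · have hzk : z ∈ j₀ ⁻¹ᵁ (U k).1 := by
        show j₀ z ∈ (U k).1
        rw [hz]; exact hx
      refine absurd ⟨⟨z, hzk⟩, (U k).1.ι.isOpenEmbedding.injective ?_⟩ hp
      refine Eq.trans ?_ hpx.symm
      show ((j₀ ∣_ (U k).1) ≫ (U k).1.ι) ⟨z, hzk⟩ = _
      rw [morphismRestrict_ι]
      exact hz
  choose jk hjk using hstage
  obtain ⟨m, hm⟩ := IsCofiltered.inf_objs_exists (t.image jk)
  refine ⟨m.left, m.hom, fun z' => ?_⟩
  haveI := hflat m.left i₀ m.hom
  have hcond : j₀ (pullback.fst j₀ (D.map m.hom) z') = D.map m.hom (pullback.snd j₀ (D.map m.hom) z') := by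
    rw [← Scheme.Hom.comp_apply, pullback.condition, Scheme.Hom.comp_apply]
  obtain ⟨k, hk, hzk⟩ := Set.mem_iUnion₂.1 (ht (Set.mem_univ (pullback.fst j₀ (D.map m.hom) z')))
  obtain ⟨f⟩ := hm (X := jk k) (Finset.mem_image_of_mem jk hk)
  have hf : D.map (jk k).hom (D.map f.left (pullback.snd j₀ (D.map m.hom) z')) =
      D.map m.hom (pullback.snd j₀ (D.map m.hom) z') := by
    rw [← Scheme.Hom.comp_apply, ← D.map_comp, Over.w]
  exact at_of_sq (IsPullback.of_hasPullback j₀ (D.map m.hom)) z'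
    (hjk k _ (by rw [hf, ← hcond]; exact hzk) _ (by rw [hf, hcond]))

theorem exists_lift_list (hc : IsLimit c) (k : I) {V : (D.obj k).Opens} (hV : IsAffineOpen V)
    (rs : List Γ(c.pt, c.π.app k ⁻¹ᵁ V)) :
    ∃ (j : Over k) (ts : List Γ(D.obj j.left, D.map j.hom ⁻¹ᵁ V)),
      ts.map ((c.π.app j.left).appLE _ _ (Lib.Lim.IdealDescend.preimage_le D c k V j)).hom = rs := by
  haveI : ∀ {i j : I} (f : i ⟶ j), IsAffineHom (D.map f) := fun f => inferInstance
  induction rs with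
  | nil => exact ⟨Over.mk (𝟙 k), [], rfl⟩
  | cons a l ih =>
    obtain ⟨j₁, t, ht⟩ := Lib.Lim.IdealDescend.exists_section_eq D c hc k V hV a
    obtain ⟨j₂, ts, hts⟩ := ih
    obtain ⟨j, f₁, f₂, -⟩ := IsCofilteredOrEmpty.cone_objs j₁ j₂
    have e : ∀ {j' : Over k} (f : j ⟶ j'), D.map j.hom ⁻¹ᵁ V ≤ D.map f.left ⁻¹ᵁ (D.map j'.hom ⁻¹ᵁ V) := by
      intro j' f
      rw [← Scheme.Hom.comp_preimage, ← D.map_comp, Over.w]
    have hcomp : ∀ {j' : Over k} (f : j ⟶ j'),
        (D.map f.left).appLE (D.map j'.hom ⁻¹ᵁ V) (D.map j.hom ⁻¹ᵁ V) (e f) ≫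
          (c.π.app j.left).appLE _ _ (Lib.Lim.IdealDescend.preimage_le D c k V j) =
          (c.π.app j'.left).appLE _ _ (Lib.Lim.IdealDescend.preimage_le D c k V j') := by
      intro j' f
      rw [Scheme.Hom.appLE_comp_appLE]
      simp only [c.w f.left]
    refine ⟨j, ((D.map f₁.left).appLE _ _ (e f₁)).hom t :: ts.map ((D.map f₂.left).appLE _ _ (e f₂)).hom, ?_⟩
    rw [List.map_cons, List.map_map]
    refine congrArg₂ List.cons ?_ ?_
    · exact (congr($(hcomp f₁) t)).trans ht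
    · rw [← hts]
      exact congrArg (fun g => List.map g ts) (funext fun x => congr($(hcomp f₂) x))

theorem comap_eq {A B : Type u} [CommRing A] [CommRing B] (θ : A →+* B) (hθ : θ.FaithfullyFlat)
    {J J' : Ideal A} (h : J.map θ = J'.map θ) : J = J' := by
  letI := θ.toAlgebra
  haveI : Module.FaithfullyFlat A B := hθ
  exact (Ideal.comap_map_eq_self_of_faithfullyFlat (B := B) J).symm.trans
    ((congrArg (Ideal.comap θ) h).trans (Ideal.comap_map_eq_self_of_faithfullyFlat (B := B) J'))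

set_option maxHeartbeats 800000 in
/-- Surjective transition maps. -/
theorem stage_of_surjective (hc : IsLimit c) (hflat : ∀ (i j : I) (f : i ⟶ j), Flat (D.map f))
    (hsurj : ∀ (i j : I) (f : i ⟶ j), Surjective (D.map f))
    (i₀ : I) {X₀ : Scheme.{u}} (j₀ : X₀ ⟶ D.obj i₀) [CompactSpace X₀]
    [IsImmersion j₀] (h : ∀ z, At (pullback.snd j₀ (c.π.app i₀)) z) :
    ∃ (j : I) (φ : j ⟶ i₀), ∀ z, At (pullback.snd j₀ (D.map φ)) z := by
  classical
  haveI : ∀ {i j : I} (f : i ⟶ j), IsAffineHom (D.map f) := fun f => inferInstance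
  haveI hπa : ∀ i, IsAffineHom (c.π.app i) := fun i => isAffineHom_π_app D c hc i
  haveI hπf : ∀ i, Flat (c.π.app i) := fun i => LimTop.Affine.flat_π hc i fun j φ => hflat j i φ
  have hπs : ∀ (i : I) (x : D.obj i), ∃ s, c.π.app i s = x := fun i x => by
    have : x ∈ Set.range (c.π.app i) := by
      rw [LimTop.Points.range_π hc i]
      exact Set.mem_iInter₂.2 fun j φ => (hsurj j i φ).surj x
    exact this
  -- near each point of the limit the immersion is regular at a stage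
  have hloc : ∀ z : ↥(pullback j₀ (c.π.app i₀)), ∃ (l : Over i₀) (V : (D.obj l.left).Opens),
      c.π.app l.left (pullback.snd j₀ (c.π.app i₀) z) ∈ V ∧
      ∀ y : ↥(pullback j₀ (D.map l.hom)), pullback.snd j₀ (D.map l.hom) y ∈ V →
        At (pullback.snd j₀ (D.map l.hom)) y := by
    intro z
    obtain ⟨⟨U, hU⟩, hzU, -, hcl⟩ :=
      Synt92.KRImm.exists_closed_chart j₀ (pullback.fst j₀ (c.π.app i₀) z) (O := ⊤) trivial
    let iS : pullback j₀ (c.π.app i₀) ⟶ c.pt := pullback.snd j₀ (c.π.app i₀)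
    have h' : At iS z := h z
    obtain ⟨⟨U', hU'⟩, hxU', hcl', rs, hrs, hker⟩ := h'
    have hxU : c.π.app i₀ (iS z) ∈ U := by
      show (iS ≫ c.π.app i₀) z ∈ U
      rw [← pullback.condition, Scheme.Hom.comp_apply]
      exact hzU
    have hUS : IsAffineOpen (c.π.app i₀ ⁻¹ᵁ U) := hU.preimage _
    obtain ⟨b, b', hbb', hxb⟩ := exists_basicOpen_le_affine_inter (X := c.pt) (U := c.π.app i₀ ⁻¹ᵁ U) hUS hU' (iS z) ⟨hxU, hxU'⟩
    obtain ⟨k, bk, hbk⟩ := Lib.Lim.IdealDescend.exists_section_eq D c hc i₀ U hU b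
    let V := (D.obj k.left).basicOpen bk
    have hVa : IsAffineOpen V := (hU.preimage (D.map k.hom)).basicOpen bk
    have hVS : c.π.app k.left ⁻¹ᵁ V = c.pt.basicOpen b' := by
      rw [← hbb', ← hbk]
      refine Eq.trans ?_ (Scheme.basicOpen_appLE (c.π.app k.left) _ _ _ bk).symm
      refine (inf_eq_right.2 fun s hs => ?_).symm
      have h1 : D.map k.hom (c.π.app k.left s) ∈ U := (D.obj k.left).basicOpen_le bk hs
      rwa [← Scheme.Hom.comp_apply, c.w] at h1
    -- the generators on the limit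
    haveI := hU'.isLocalization_basicOpen b'
    haveI : Module.Flat Γ(c.pt, U') Γ(c.pt, c.pt.basicOpen b') := IsLocalization.flat _ (Submonoid.powers b')
    let rs' : List Γ(c.pt, c.pt.basicOpen b') := rs.map (algebraMap Γ(c.pt, U') Γ(c.pt, c.pt.basicOpen b'))
    have hkerb : RingHom.ker (iS.app (c.pt.basicOpen b')).hom = Ideal.ofList rs' := by
      rw [Synt92.KRImm.ker_app_basicOpen iS hU' hcl' b', hker, Ideal.map_ofList]
      rfl
    have hwb : IsWeaklyRegular Γ(c.pt, c.pt.basicOpen b') rs' :=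
      H69.RegLim.w_of_flat _ (RingHom.flat_algebraMap_iff.2 inferInstance) rs
        (show IsRegular Γ(c.pt, U') rs from hrs).toIsWeaklyRegular
    obtain ⟨rsV, hwV, hkerV⟩ : ∃ rsV : List Γ(c.pt, c.π.app k.left ⁻¹ᵁ V),
        IsWeaklyRegular Γ(c.pt, c.π.app k.left ⁻¹ᵁ V) rsV ∧
          RingHom.ker (iS.app (c.π.app k.left ⁻¹ᵁ V)).hom = Ideal.ofList rsV := by
      rw [hVS]
      exact ⟨rs', hwb, hkerb⟩
    obtain ⟨l, ts, hts⟩ := exists_lift_list hc k.left hVa rsV
    let L : Over i₀ := Over.mk (l.hom ≫ k.hom)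
    let VL : (D.obj l.left).Opens := D.map l.hom ⁻¹ᵁ V
    have hVL : IsAffineOpen VL := hVa.preimage _
    have hVLU : VL ≤ D.map L.hom ⁻¹ᵁ U := by
      intro x hx
      show D.map (l.hom ≫ k.hom) x ∈ U
      rw [D.map_comp, Scheme.Hom.comp_apply]
      exact (D.obj k.left).basicOpen_le bk hx
    obtain ⟨hclL, hkerL⟩ := Synt92.KRDescentScheme.ker_baseChange j₀ (D.map L.hom)
      (pullback.snd j₀ (D.map L.hom)) _ (IsPullback.of_hasPullback j₀ (D.map L.hom)) hU hcl hVL hVLU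
    have hVSU : c.π.app k.left ⁻¹ᵁ V ≤ c.π.app i₀ ⁻¹ᵁ U := by
      intro s hs
      show c.π.app i₀ s ∈ U
      rw [← c.w k.hom, Scheme.Hom.comp_apply]
      exact (D.obj k.left).basicOpen_le bk hs
    obtain ⟨-, hkerS⟩ := Synt92.KRDescentScheme.ker_baseChange j₀ (c.π.app i₀)
      iS _ (IsPullback.of_hasPullback j₀ (c.π.app i₀)) hU hcl (hVa.preimage (c.π.app k.left)) hVSU
    have hle : c.π.app k.left ⁻¹ᵁ V ≤ c.π.app l.left ⁻¹ᵁ VL :=
      Lib.Lim.IdealDescend.preimage_le D c k.left V l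
    let θ := ((c.π.app l.left).appLE VL (c.π.app k.left ⁻¹ᵁ V) hle).hom
    have hff : θ.FaithfullyFlat := Synt92.KRDescentScheme.faithfullyFlat_appLE (c.π.app l.left) hVL
      (hVa.preimage (c.π.app k.left)) hle fun x hx => by
        obtain ⟨s, rfl⟩ := hπs l.left x
        refine ⟨s, ?_, rfl⟩
        show c.π.app k.left s ∈ V
        rw [← c.w l.hom, Scheme.Hom.comp_apply]
        exact hx
    have hθ : (RingHom.ker ((pullback.snd j₀ (D.map L.hom)).app VL).hom).map θ =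
        (Ideal.ofList ts).map θ := by
      rw [hkerL, Ideal.map_map, Ideal.map_ofList]
      refine Eq.trans ?_ ((hkerS.symm.trans hkerV).trans (congrArg Ideal.ofList hts.symm))
      congr 1
      rw [← CommRingCat.hom_comp, Scheme.Hom.appLE_comp_appLE]
      simp only [L, Over.mk_hom, c.w]
    have hJ : RingHom.ker ((pullback.snd j₀ (D.map L.hom)).app VL).hom = Ideal.ofList ts := by
      exact comap_eq θ hff hθ
    have hwt : IsWeaklyRegular Γ(D.obj l.left, VL) ts :=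
      H69.RegLim.w_of_faithfullyFlat θ hff ts (hts ▸ hwV)
    refine ⟨L, VL, ?_, fun y hy => ?_⟩
    · show D.map l.hom (c.π.app l.left (iS z)) ∈ V
      rw [← Scheme.Hom.comp_apply, c.w]
      have : iS z ∈ c.pt.basicOpen b' := hbb' ▸ hxb
      rwa [← hVS] at this
    · exact ⟨⟨VL, hVL⟩, hy, hclL, ts, isRegular_of_w hwt (ofList_ne_top_of_ker _ y hy hJ), hJ⟩
  choose l V hzV hl using hloc
  haveI : CompactSpace ↥(pullback j₀ (c.π.app i₀)) :=
    QuasiCompact.compactSpace_of_compactSpace (pullback.fst j₀ (c.π.app i₀))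
  let O : ↥(pullback j₀ (c.π.app i₀)) → (pullback j₀ (c.π.app i₀)).Opens := fun z =>
    pullback.snd j₀ (c.π.app i₀) ⁻¹ᵁ (c.π.app (l z).left ⁻¹ᵁ V z)
  have hO : (Set.univ : Set ↥(pullback j₀ (c.π.app i₀))) ⊆ ⋃ z, SetLike.coe (O z) := fun z _ =>
    Set.mem_iUnion.2 ⟨z, hzV z⟩
  obtain ⟨t, ht⟩ := isCompact_univ.elim_finite_subcover (fun z => SetLike.coe (O z))
    (fun z => (O z).2) hO
  obtain ⟨m, hm⟩ := IsCofiltered.inf_objs_exists (t.image l)
  refine ⟨m.left, m.hom, fun y => ?_⟩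
  obtain ⟨s, hs⟩ := hπs m.left (pullback.snd j₀ (D.map m.hom) y)
  have hy : j₀ (pullback.fst j₀ (D.map m.hom) y) = c.π.app i₀ s := by
    refine Eq.trans ?_ ((congrArg (D.map m.hom) hs.symm).trans (LimTop.Points.π_map_apply m.hom s))
    rw [← Scheme.Hom.comp_apply, pullback.condition, Scheme.Hom.comp_apply]
  obtain ⟨z, -, hz⟩ := Scheme.Pullback.exists_preimage_pullback _ s hy
  obtain ⟨k, hk, hzk⟩ := Set.mem_iUnion₂.1 (ht (Set.mem_univ z))
  obtain ⟨f⟩ := hm (X := l k) (Finset.mem_image_of_mem l hk)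
  haveI := hflat m.left (l k).left f.left
  refine at_further j₀ (D.map f.left) (D.map (l k).hom) (D.map m.hom)
    (by rw [← D.map_comp, Over.w]) y fun y' _ h2 => hl k y' ?_
  rw [h2, ← hs, ← Scheme.Hom.comp_apply, c.w]
  have : c.π.app (l k).left (pullback.snd j₀ (c.π.app i₀) z) ∈ V k := hzk
  exact (congrArg (fun t => c.π.app (l k).left t ∈ V k) hz).mp this

/-- Regular immersions along flat limits. -/
theorem isRegularImmersion_iff_stage (hc : IsLimit c) (hflat : ∀ (i j : I) (f : i ⟶ j), Flat (D.map f))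
    (i₀ : I) {X₀ : Scheme.{u}} (j₀ : X₀ ⟶ D.obj i₀) [CompactSpace X₀] [IsImmersion j₀]
    (hcase : (∀ i : I, IsLocallyNoetherian (D.obj i)) ∨ ∀ (i j : I) (f : i ⟶ j), Surjective (D.map f)) :
    RegImm.IsRegularImmersion RegImm.Kind.regular (pullback.snd j₀ (c.π.app i₀)) ↔
      ∃ (j : I) (φ : j ⟶ i₀), RegImm.IsRegularImmersion RegImm.Kind.regular (pullback.snd j₀ (D.map φ)) := by
  haveI : ∀ {i j : I} (f : i ⟶ j), IsAffineHom (D.map f) := fun f => inferInstance
  constructor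
  · rintro ⟨-, h⟩
    obtain ⟨j, φ, hj⟩ : ∃ (j : I) (φ : j ⟶ i₀), ∀ z, At (pullback.snd j₀ (D.map φ)) z := by
      rcases hcase with hN | hS
      · haveI := hN i₀
        exact stage_of_noetherian hc hflat i₀ j₀ h
      · exact stage_of_surjective hc hflat hS i₀ j₀ h
    exact ⟨j, φ, inferInstance, hj⟩
  · rintro ⟨j, φ, -, hj⟩
    haveI : Flat (c.π.app j) := LimTop.Affine.flat_π hc j fun k ψ => hflat k j ψ
    exact ⟨inferInstance, fun z => at_further j₀ (c.π.app j) (D.map φ) (c.π.app i₀) (c.w φ) z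
      fun y _ _ => hj y⟩

end Groth.Agent.H69.RegImmLim
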